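import Groth.Agent.EtLocalLib.Nbhd
import Groth.Agent.UnramFibre.Basic
import Groth.Agent.GrpSch.FlatPoint
import Groth.Agent.Unram.Pointwise
import Mathlib.AlgebraicGeometry.Morphisms.Etale

/-!
# Unramified morphisms and closed immersions flat-locally on the base
-/

set_option autoImplicit false

universe u

open CategoryTheory CategoryTheory.Limits AlgebraicGeometry

namespace Groth.Agent.EtLocalImm

variable {X Y : Scheme.{u}} (f : X ⟶ Y)

/-- Étale neighbourhoods on which an unramified morphism is a closed immersion near a point. -/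
theorem exists_closedImmersion [LocallyOfFiniteType f] [FormallyUnramified f] (x : X) :
    ∃ (Y' : Scheme.{u}) (g : Y' ⟶ Y) (U : (pullback f g).Opens), Etale g ∧
      x ∈ (pullback.fst f g).base '' (U : Set ↥(pullback f g)) ∧
      IsClosedImmersion (U.ι ≫ pullback.snd f g) := by
  obtain ⟨Y', g, u, hg, hgu, K, _, lab, V, hV, -, -, hall⟩ :=
    EtLocalLib.unramified_nbhd f (f x) (fun _ : Unit => x) (fun a b _ => Subsingleton.elim a b) (fun _ => rfl)
      (fun _ => ⟨⊤, trivial, inferInstance, MorphismProperty.comp_mem @FormallyUnramified _ _ inferInstance inferInstance⟩)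
  obtain ⟨w, hw₁, hw₂⟩ := Scheme.Pullback.exists_preimage_pullback (f := f) (g := g) x u hgu.symm
  obtain ⟨k, -, hk⟩ := hall w () hw₂ hw₁
  exact ⟨Y', g, V k, hg, ⟨w, hk, hw₁⟩, (hV k).1⟩

/-- Unramifiedness descends from an open of a base change. -/
theorem formallyUnramified_stalkMap [LocallyOfFiniteType f] {Y' : Scheme.{u}} (g : Y' ⟶ Y)
    (U : (pullback f g).Opens) [FormallyUnramified (U.ι ≫ pullback.snd f g)] (w : U.toScheme) :
    (f.stalkMap (pullback.fst f g (U.ι w))).hom.FormallyUnramified :=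
  UnramFibre.formallyUnramified_stalkMap_of_baseChange f g (U.ι w)
    ((Unram.stalkMap_ι_comp_iff RingHom.FormallyUnramified.respectsIso (pullback.snd f g) U w).1
      ((Unram.formallyUnramified_iff_stalkMap _).1 inferInstance w))

/-- Flatness descends from an open of a flat base change. -/
theorem flat_stalkMap {Y' : Scheme.{u}} (g : Y' ⟶ Y) [Flat g]
    (U : (pullback f g).Opens) [Flat (U.ι ≫ pullback.snd f g)] (w : U.toScheme) :
    (f.stalkMap (pullback.fst f g (U.ι w))).hom.Flat := by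
  refine GrpSch.flat_stalkMap_of_comp (pullback.fst f g) f (U.ι w) (Flat.stalkMap _ _) ?_
  have h : (((U.ι ≫ pullback.snd f g) ≫ g).stalkMap w).hom.Flat := Flat.stalkMap _ _
  rw [← Unram.stalkMap_ι_comp_iff RingHom.Flat.respectsIso (pullback.fst f g ≫ f) U w]
  have e : U.ι ≫ pullback.fst f g ≫ f = (U.ι ≫ pullback.snd f g) ≫ g := by
    rw [pullback.condition, Category.assoc]
  exact e ▸ h

theorem unramified_iff [LocallyOfFinitePresentation f] :
    (FormallyUnramified f → ∃ (ι : Type u) (Y' : ι → Scheme.{u}) (g : ∀ a, Y' a ⟶ Y) (U : ∀ a, (pullback f (g a)).Opens),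
      (∀ a, Etale (g a)) ∧ (∀ x : X, ∃ a, x ∈ (pullback.fst f (g a)).base '' (U a : Set ↥(pullback f (g a)))) ∧
        ∀ a, IsClosedImmersion ((U a).ι ≫ pullback.snd f (g a))) ∧
    ((∃ (ι : Type u) (Y' : ι → Scheme.{u}) (g : ∀ a, Y' a ⟶ Y) (U : ∀ a, (pullback f (g a)).Opens),
      (∀ a, Flat (g a)) ∧ (∀ x : X, ∃ a, x ∈ (pullback.fst f (g a)).base '' (U a : Set ↥(pullback f (g a)))) ∧
        ∀ a, IsClosedImmersion ((U a).ι ≫ pullback.snd f (g a))) → FormallyUnramified f) := by
  refine ⟨fun _ => ?_, ?_⟩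
  · choose Y' g U hg hx hU using exists_closedImmersion f
    exact ⟨X, Y', g, U, hg, fun x => ⟨x, hx x⟩, hU⟩
  · rintro ⟨ι, Y', g, U, hg, hx, hU⟩
    refine (Unram.formallyUnramified_iff_stalkMap f).2 fun x => ?_
    obtain ⟨a, w, hw, rfl⟩ := hx x
    have := hU a
    exact formallyUnramified_stalkMap f (g a) (U a) ⟨w, hw⟩

theorem etale_iff [LocallyOfFinitePresentation f] :
    (Etale f → ∃ (ι : Type u) (Y' : ι → Scheme.{u}) (g : ∀ a, Y' a ⟶ Y) (U : ∀ a, (pullback f (g a)).Opens),
      (∀ a, Etale (g a)) ∧ (∀ x : X, ∃ a, x ∈ (pullback.fst f (g a)).base '' (U a : Set ↥(pullback f (g a)))) ∧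
        ∀ a, IsOpenImmersion ((U a).ι ≫ pullback.snd f (g a))) ∧
    ((∃ (ι : Type u) (Y' : ι → Scheme.{u}) (g : ∀ a, Y' a ⟶ Y) (U : ∀ a, (pullback f (g a)).Opens),
      (∀ a, Flat (g a)) ∧ (∀ x : X, ∃ a, x ∈ (pullback.fst f (g a)).base '' (U a : Set ↥(pullback f (g a)))) ∧
        ∀ a, IsOpenImmersion ((U a).ι ≫ pullback.snd f (g a))) → Etale f) := by
  refine ⟨fun _ => ?_, ?_⟩
  · let U := (pullback.diagonal f).opensRange
    refine ⟨PUnit, fun _ => X, fun _ => f, fun _ => U, fun _ => inferInstance,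
      fun x => ⟨PUnit.unit, pullback.diagonal f x, ⟨x, rfl⟩, ?_⟩, fun _ => ?_⟩
    · rw [← Scheme.Hom.comp_apply, pullback.diagonal_fst]; rfl
    · have e : (pullback.diagonal f).isoOpensRange.hom ≫ (U.ι ≫ pullback.snd f f) = 𝟙 X := by
        rw [Scheme.Hom.isoOpensRange_hom_ι_assoc, pullback.diagonal_snd]
      rw [show U.ι ≫ pullback.snd f f = (pullback.diagonal f).isoOpensRange.inv ≫
          ((pullback.diagonal f).isoOpensRange.hom ≫ (U.ι ≫ pullback.snd f f)) from
        (Iso.inv_hom_id_assoc _ _).symm, e, Category.comp_id]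
      infer_instance
  · rintro ⟨ι, Y', g, U, hg, hx, hU⟩
    have hfl : Flat f := Flat.of_stalkMap f fun x => by
      obtain ⟨a, w, hw, rfl⟩ := hx x
      have := hU a; have := hg a
      exact flat_stalkMap f (g a) (U a) ⟨w, hw⟩
    have hfu : FormallyUnramified f := (Unram.formallyUnramified_iff_stalkMap f).2 fun x => by
      obtain ⟨a, w, hw, rfl⟩ := hx x
      have := hU a
      exact formallyUnramified_stalkMap f (g a) (U a) ⟨w, hw⟩
    exact Etale.of_formallyUnramified_of_flat f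

end Groth.Agent.EtLocalImm
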