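import Groth.Prelude.Def_SchLoc
import Mathlib.AlgebraicGeometry.Morphisms.Etale
import Mathlib.AlgebraicGeometry.Morphisms.FormallyUnramified
import Mathlib.AlgebraicGeometry.Morphisms.FlatMono

/-!
# Unramified at a point and the diagonal
-/

set_option autoImplicit false

universe u

open CategoryTheory CategoryTheory.Limits AlgebraicGeometry

namespace Groth.Agent.EtLocalImm

variable {X Y : Scheme.{u}} (f : X ⟶ Y)

theorem diag_comp_map {U : Scheme.{u}} (j : U ⟶ X) :
    pullback.diagonal (j ≫ f) ≫ pullback.map (j ≫ f) (j ≫ f) f f j j (𝟙 Y) (by simp) (by simp) =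
      j ≫ pullback.diagonal f := by
  apply pullback.hom_ext <;> simp [pullback.lift_fst, pullback.lift_snd]

theorem unramified_iff_diag [LocallyOfFiniteType f] (x : X) :
    (∃ U : X.Opens, x ∈ U ∧ FormallyUnramified (U.ι ≫ f)) ↔
      SchLoc.IsLocalIsoAt (pullback.diagonal f) x := by
  constructor
  · rintro ⟨U, hx, hU⟩
    refine ⟨U, hx, ?_⟩
    rw [← diag_comp_map f U.ι]
    infer_instance
  · rintro ⟨U, hx, hU⟩
    rw [← diag_comp_map f U.ι] at hU
    have : IsOpenImmersion (pullback.diagonal (U.ι ≫ f)) :=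
      IsOpenImmersion.of_comp _ (pullback.map (U.ι ≫ f) (U.ι ≫ f) f f U.ι U.ι (𝟙 Y) _ _)
    exact ⟨U, hx, inferInstance⟩

theorem unramified_iff_sections [LocallyOfFiniteType f] (x : X) :
    (∃ U : X.Opens, x ∈ U ∧ FormallyUnramified (U.ι ≫ f)) ↔
      ∀ (Y' : Scheme.{u}) (g : Y' ⟶ Y) (s' : Y' ⟶ pullback f g), s' ≫ pullback.snd f g = 𝟙 Y' →
        ∀ y' : ↥Y', pullback.fst f g (s' y') = x → SchLoc.IsLocalIsoAt s' y' := by
  constructor
  · rintro ⟨U, hx, hU⟩ Y' g s' hs y' hy
    let W : (pullback f g).Opens := pullback.fst f g ⁻¹ᵁ U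
    let V : Y'.Opens := s' ⁻¹ᵁ W
    refine ⟨V, show pullback.fst f g (s' y') ∈ U from hy ▸ hx, ?_⟩
    have hsq : IsPullback (pullback.fst f g ∣_ U) (W.ι ≫ pullback.snd f g) (U.ι ≫ f) g :=
      ((isPullback_morphismRestrict (pullback.fst f g) U).paste_vert (IsPullback.of_hasPullback f g))
    have : FormallyUnramified (W.ι ≫ pullback.snd f g) := MorphismProperty.of_isPullback hsq hU
    have e : (s' ∣_ W) ≫ (W.ι ≫ pullback.snd f g) = V.ι := by
      rw [← Category.assoc, morphismRestrict_ι, Category.assoc, hs, Category.comp_id]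
    have : Etale ((s' ∣_ W) ≫ (W.ι ≫ pullback.snd f g)) := e ▸ inferInstance
    have : Etale (s' ∣_ W) := Etale.of_comp _ (W.ι ≫ pullback.snd f g)
    have : IsSplitMono s' := IsSplitMono.mk' ⟨pullback.snd f g, hs⟩
    have : Mono ((s' ∣_ W) ≫ W.ι) := by
      rw [morphismRestrict_ι]; infer_instance
    have : Mono (s' ∣_ W) := mono_of_mono _ W.ι
    have : IsOpenImmersion (s' ∣_ W) := IsOpenImmersion.of_flat_of_mono _
    rw [show V.ι ≫ s' = (s' ∣_ W) ≫ W.ι from (morphismRestrict_ι _ _).symm]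
    infer_instance
  · intro h
    refine (unramified_iff_diag f x).2 (h X f (pullback.diagonal f) (pullback.diagonal_snd _) x ?_)
    rw [← Scheme.Hom.comp_apply, pullback.diagonal_fst]
    rfl

end Groth.Agent.EtLocalImm
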